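import Cfsg.Agent.Lib.L43Three.WreathChar.Linear
import Cfsg.Agent.Lib.Transfer.Fusion
import Cfsg.Agent.Lib.Solvable.Coprime

/-!
A group containing `(3 ≀ 3) : 2` together with all centralisers of its elements of order three is
equal to it.
-/

set_option autoImplicit false
set_option maxRecDepth 40000
set_option linter.style.haveILetI false
set_option linter.unusedSectionVars false

namespace Cfsg.Agent.L43Three.WreathChar

open Cfsg

universe u

variable {X : Type u} [Group X] [Finite X] {ι : M162 →* X}

/-- The images of three generators of the Sylow subgroup are trivial under a linear character. -/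
theorem linear_trivial (g : M162 →* ℂˣ) {r : M162} (hr : r.s = false) : g r = 1 := by
  have gens : ∀ r : M162, r.s = false → ∃ i j l n : Fin 3, r =
      (⟨⟨.o, .z, .z⟩, .z, false⟩ : M162) ^ i.val * (⟨⟨.z, .o, .z⟩, .z, false⟩ : M162) ^ j.val *
        (⟨⟨.z, .z, .o⟩, .z, false⟩ : M162) ^ l.val * (⟨⟨.z, .z, .z⟩, .o, false⟩ : M162) ^ n.val := by
    decide +kernel
  have key : ∀ x : M162, x ^ 3 = 1 → (∃ k : M162, k * x * k⁻¹ = x⁻¹) → g x = 1 := by
    rintro x h3 ⟨k, hk⟩
    have h := congrArg g hk
    rw [map_mul, map_mul, map_inv, map_inv, mul_right_comm, mul_inv_cancel, one_mul,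
      eq_inv_iff_mul_eq_one] at h
    have h' : g x ^ 3 = 1 := by rw [← map_pow, h3, map_one]
    rw [pow_three', h, one_mul] at h'
    exact h'
  obtain ⟨i, j, l, n, rfl⟩ := gens r hr
  rw [map_mul, map_mul, map_mul, map_pow, map_pow, map_pow, map_pow,
    key _ (by decide +kernel) (by decide +kernel), key _ (by decide +kernel) (by decide +kernel),
    key _ (by decide +kernel) (by decide +kernel), key _ (by decide +kernel) (by decide +kernel)]
  simp

/-- The normal subgroup of index two. -/
def flagFree : Subgroup M162 := testSub pR rfl (by decide +kernel) (by decide +kernel)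

theorem mem_flagFree {r : M162} : r ∈ flagFree ↔ r.s = false := by
  show pR r = true ↔ _
  simp [pR]

/-- The elementary abelian normal subgroup. -/
def flatSub : Subgroup M162 :=
  testSub (fun x => pR x && pJ x) rfl (by decide +kernel) (by decide +kernel)

theorem card_flatSub : Nat.card flatSub = 27 := by
  show Nat.card {x : M162 // (pR x && pJ x) = true} = 27
  rw [Nat.card_eq_fintype_card, Fintype.card_subtype]
  decide +kernel

/-- A group containing `(3 ≀ 3) : 2` and the centralisers of its elements of order three is equal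
to it. -/
theorem eq_top (inj : Function.Injective ι)
    (hC : ∀ m, orderOf m = 3 → Subgroup.centralizer ({ι m} : Set X) ≤ ι.range) : ι.range = ⊤ := by
  classical
  haveI : Fact (Nat.Prime 3) := ⟨Nat.prime_three⟩
  obtain ⟨f, hf⟩ := exists_linear inj hC
  -- the members of the kernel inside the model
  have hker : ∀ h : M162, f (ι h) = 1 ↔ h.s = false := by
    intro h
    refine ⟨fun e => ?_, fun e => linear_trivial (f.comp ι) e⟩
    by_contra hs
    have hs' : h.s = true := by simpa using hs
    have key : ∀ h : M162, h.s = true → (h * tauM).s = false := by decide +kernel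
    have e' : f (ι (h * tauM)) = 1 := linear_trivial (f.comp ι) (key h hs')
    rw [map_mul, map_mul, e, one_mul] at e'
    exact hf e'
  set R : Subgroup X := flagFree.map ι with hR
  have hRK : R ≤ f.ker := by
    rintro _ ⟨r, hr, rfl⟩
    exact (hker r).2 (mem_flagFree.1 hr)
  have hKR : ∀ x ∈ f.ker, x ∈ ι.range → x ∈ R := by
    rintro x hx ⟨r, rfl⟩
    exact ⟨r, mem_flagFree.2 ((hker r).1 hx), rfl⟩
  set R' : Subgroup f.ker := R.subgroupOf f.ker with hR'
  set zM : M162 := ⟨⟨.o, .o, .o⟩, .z, false⟩ with hzM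
  have hzR : ι zM ∈ R := ⟨zM, mem_flagFree.2 rfl, rfl⟩
  -- the image of the flag-free part is a Sylow subgroup of the kernel
  have hRp : IsPGroup 3 R' := by
    have h81 : IsPGroup 3 flagFree := fun r => ⟨2, Subtype.ext (by
      have key : ∀ r : M162, r.s = false → r ^ (3 ^ 2) = 1 := by decide +kernel
      rw [Subgroup.coe_pow, Subgroup.coe_one]
      exact key r (mem_flagFree.1 r.2))⟩
    exact (h81.map ι).of_equiv (Subgroup.subgroupOfEquivOfLe hRK).symm
  obtain ⟨P, hP⟩ := hRp.exists_le_sylow
  have hPeq : (P : Subgroup f.ker) = R' := by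
    refine le_antisymm (fun x hx => ?_) hP
    haveI : Nontrivial (P : Subgroup f.ker) :=
      ⟨⟨⟨ι zM, hRK hzR⟩, hP (show (⟨ι zM, hRK hzR⟩ : f.ker) ∈ R' from hzR)⟩, 1, fun e => by
        have e' : ι zM = 1 := congrArg (fun p : (P : Subgroup f.ker) => ((p : f.ker) : X)) e
        exact absurd (inj (e'.trans (map_one ι).symm)) (by decide +kernel)⟩
    haveI := P.isPGroup'.center_nontrivial
    obtain ⟨c, hc, hc3⟩ : ∃ c : (P : Subgroup f.ker), c ∈ Subgroup.center (P : Subgroup f.ker) ∧
        orderOf c = 3 := by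
      have hp := P.isPGroup'.to_subgroup (Subgroup.center (P : Subgroup f.ker))
      obtain ⟨n, hn⟩ := hp.exists_card_eq
      have hn0 : n ≠ 0 := fun e => by
        rw [e, pow_zero, Nat.card_eq_one_iff_unique] at hn
        exact (not_subsingleton _) hn.1
      obtain ⟨c, hc⟩ := exists_prime_orderOf_dvd_card' 3 (G := Subgroup.center (P : Subgroup f.ker))
        (by rw [hn]; exact dvd_pow_self 3 hn0)
      exact ⟨c, c.2, by rwa [Subgroup.orderOf_coe]⟩
    have hcom : ∀ y (hy : y ∈ P), ((c : f.ker) : X) * (y : X) = (y : X) * ((c : f.ker) : X) :=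
      fun y hy => by
        have := Subgroup.mem_center_iff.1 hc ⟨y, hy⟩
        exact (congrArg (fun p : (P : Subgroup f.ker) => ((p : f.ker) : X)) this).symm
    have hc3' : ((c : f.ker) : X) ^ 3 = 1 := by
      have := pow_orderOf_eq_one c
      rw [hc3] at this
      exact congrArg (fun p : (P : Subgroup f.ker) => ((p : f.ker) : X)) this
    have hc1 : ((c : f.ker) : X) ≠ 1 := fun e => by
      have : c = 1 := Subtype.ext (Subtype.ext e)
      rw [this, orderOf_one] at hc3
      exact absurd hc3 (by decide)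
    have hzord : orderOf zM = 3 := zModel_spec
    obtain ⟨m, hm⟩ : ((c : f.ker) : X) ∈ ι.range :=
      hC zM hzord (Subgroup.mem_centralizer_singleton_iff.2
        (hcom ⟨ι zM, hRK hzR⟩ (hP hzR)))
    have hm3 : orderOf m = 3 := by
      refine orderOf_eq_prime (inj ?_) fun e => hc1 ?_
      · rw [map_pow, hm, hc3', map_one]
      · rw [← hm, e, map_one]
    refine hKR x x.2 (hC m hm3 (Subgroup.mem_centralizer_singleton_iff.2 ?_))
    rw [hm]
    exact (hcom x hx).symm
  -- the Sylow subgroup controls its fusion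
  have hfus : ∀ x ∈ P, ∀ g : f.ker, g * x * g⁻¹ ∈ P → ∃ v ∈ P, v * x * v⁻¹ = g * x * g⁻¹ := by
    intro x hx g hg
    by_cases hx1 : x = 1
    · exact ⟨1, one_mem _, by simp [hx1]⟩
    refine ⟨g, ?_, rfl⟩
    have hxR : (x : X) ∈ R := by
      have : x ∈ R' := hPeq ▸ hx
      exact this
    have hgR : ((g * x * g⁻¹ : f.ker) : X) ∈ R := by
      have : g * x * g⁻¹ ∈ R' := hPeq ▸ hg
      exact this
    obtain ⟨r, hr, hrx⟩ := hxR
    obtain ⟨r', -, hrg⟩ := hgR
    have hD : Dset r := by
      have key : ∀ r : M162, r.s = false → r ≠ 1 → Dset r := by decide +kernel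
      refine key r (mem_flagFree.1 hr) fun e => hx1 (Subtype.ext ?_)
      rw [← hrx, e, map_one]; rfl
    have hD' : Dset r' := by
      intro e
      refine hD (inj ?_)
      have e' := congrArg ι e
      rw [map_mul, map_one, hrg] at e'
      rw [map_mul, map_one, hrx]
      calc (x : X) * x = (g : X)⁻¹ * (((g * x * g⁻¹ : f.ker) : X) * ((g * x * g⁻¹ : f.ker) : X)) * g := by
            push_cast; group
        _ = 1 := by rw [e']; group
    have hgm : (g : X) ∈ ι.range := (emb inj hC).ti r r' hD hD' g (by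
      rw [hrx, hrg]; push_cast; rfl)
    have : g ∈ R' := hKR g g.2 hgm
    rw [← hPeq] at this
    exact this
  obtain ⟨Q, N, hN, hcompl⟩ := Fusion.hasNormalPComplement_of_controlsFusion P hfus
  -- the complement is centralised piecewise by the elementary abelian subgroup
  set A : Subgroup X := flatSub.map ι with hA
  set N' : Subgroup X := N.map f.ker.subtype with hN'
  have hflat : flatSub ≤ flagFree := fun r hr => by
    show pR r = true
    have h : (pR r && pJ r) = true := hr
    rw [Bool.and_eq_true] at h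
    exact h.1
  have hAK : A ≤ f.ker := (Subgroup.map_mono hflat).trans hRK
  have hAcard : Nat.card A = 27 := by
    rw [hA, Subgroup.card_map_of_injective inj, card_flatSub]
  haveI : IsMulCommutative A := ⟨⟨fun a b => by
    obtain ⟨r, hr, hra⟩ := a.2
    obtain ⟨s, hs, hsb⟩ := b.2
    have key : ∀ r s : M162, (pR r && pJ r) = true → (pR s && pJ s) = true → r * s = s * r := by
      decide +kernel
    refine Subtype.ext ?_
    show (a : X) * b = b * a
    rw [← hra, ← hsb, ← map_mul, ← map_mul, key r s hr hs]⟩⟩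
  have hncyc : ¬ IsCyclic A := fun hc => by
    have h1 := IsCyclic.exponent_eq_card (α := A)
    have h2 : Monoid.exponent A ∣ 3 := Monoid.exponent_dvd_of_forall_pow_eq_one fun a => by
      obtain ⟨r, hr, hra⟩ := a.2
      have key : ∀ r : M162, (pR r && pJ r) = true → r ^ 3 = 1 := by decide +kernel
      refine Subtype.ext ?_
      rw [Subgroup.coe_pow, ← hra, ← map_pow, key r hr, map_one, Subgroup.coe_one]
    rw [h1, hAcard] at h2
    norm_num at h2
  have hnorm : A ≤ Subgroup.normalizer (N' : Set X) := by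
    intro a ha
    rw [Subgroup.mem_normalizer_iff]
    intro y
    constructor
    · rintro ⟨w, hw, rfl⟩
      exact ⟨⟨a, hAK ha⟩ * w * ⟨a, hAK ha⟩⁻¹, hN.conj_mem w hw _, rfl⟩
    · rintro ⟨w, hw, hwe⟩
      refine ⟨⟨a, hAK ha⟩⁻¹ * w * ⟨a, hAK ha⟩, ?_, ?_⟩
      · simpa using hN.conj_mem w hw (⟨a, hAK ha⟩⁻¹)
      · have hwe' : (w : X) = a * y * a⁻¹ := hwe
        simp [hwe', mul_assoc]
  have hNcop : ¬ 3 ∣ Nat.card N := by
    rw [← hcompl.index_eq_card]
    exact Q.not_dvd_index
  have hcop : (Nat.card A).Coprime (Nat.card N') := by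
    rw [hAcard, hN', Subgroup.card_map_of_injective f.ker.subtype_injective]
    exact ((Nat.Prime.coprime_iff_not_dvd Nat.prime_three).2 hNcop).pow_left 3
  have hgen := CoprimeAct.generated_by_centralizers (A := A) (K := N') hncyc hnorm hcop
  have hNbot : N = ⊥ := by
    refine (Subgroup.map_eq_bot_iff_of_injective N f.ker.subtype_injective).1 ?_
    rw [← hN', ← hgen, eq_bot_iff]
    refine iSup₂_le fun a ha x hx => ?_
    obtain ⟨hxN, hxc⟩ := hx
    obtain ⟨r, hr, rfl⟩ := ha.1
    have hord : orderOf r = 3 := by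
      have key : ∀ r : M162, (pR r && pJ r) = true → r ^ 3 = 1 := by decide +kernel
      exact orderOf_eq_prime (key r hr) fun e => ha.2 (by rw [e, map_one])
    obtain ⟨w, hw, rfl⟩ := hxN
    have hwR : w ∈ R' := hKR w w.2 (hC r hord hxc)
    rw [Subgroup.mem_bot]
    have h1 : orderOf w ∣ Nat.card N := Subgroup.orderOf_dvd_natCard N hw
    have h2 : w ^ 3 ^ 2 = 1 := by
      obtain ⟨s, hs, hsw⟩ := hwR
      refine Subtype.ext ?_
      rw [Subgroup.coe_pow, Subgroup.coe_one]
      change ι s = (w : X) at hsw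
      rw [← hsw, ← map_pow,
        (by decide +kernel : ∀ s : M162, s.s = false → s ^ (3 ^ 2) = 1) s (mem_flagFree.1 hs),
        map_one]
    have : orderOf w = 1 := Nat.eq_one_of_dvd_coprimes
      (((Nat.Prime.coprime_iff_not_dvd Nat.prime_three).2 hNcop).pow_left 2)
      (orderOf_dvd_of_pow_eq_one h2) h1
    rw [orderOf_eq_one_iff.1 this]
    rfl
  -- so the kernel is the normal subgroup, and the whole group normalises it
  have hQtop : (Q : Subgroup f.ker) = ⊤ := by
    rw [hNbot] at hcompl
    exact Subgroup.isComplement'_bot_left.1 hcompl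
  have hPtop : R' = ⊤ := by
    rw [← hPeq, ← Subgroup.card_eq_iff_eq_top, Sylow.card_eq_multiplicity,
      ← Sylow.card_eq_multiplicity Q, hQtop, Subgroup.card_top]
  refine eq_top_iff.2 fun g _ => ?_
  have hmem : ι zM ∈ f.ker := hRK hzR
  have hconj : g * ι zM * g⁻¹ ∈ f.ker := (inferInstance : f.ker.Normal).conj_mem _ hmem g
  have : (⟨_, hconj⟩ : f.ker) ∈ R' := hPtop ▸ Subgroup.mem_top _
  obtain ⟨r, -, hr⟩ := this
  change ι r = g * ι zM * g⁻¹ at hr
  exact mem_of_conj inj hC (by rw [← zModel_spec]; exact pow_orderOf_eq_one _) (by decide +kernel)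
    hr.symm

end Cfsg.Agent.L43Three.WreathChar
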