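import Cfsg.Agent.Lib.L43Three.WreathChar.Model
import Cfsg.Agent.Lib.Char.Degree

/-!
A group containing `(3 ≀ 3) : 2` as a subgroup containing all centralisers of its elements of
order three has a linear character which is nontrivial on the involution.
-/

set_option autoImplicit false
set_option maxRecDepth 40000
set_option linter.style.haveILetI false
set_option linter.unusedSectionVars false

namespace Cfsg.Agent.L43Three.WreathChar

open Cfsg Cfsg.Agent.Char Cfsg.Agent.LocalTI
open scoped ComplexConjugate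

universe u

theorem zModel_spec :
    orderOf (⟨⟨.o, .o, .o⟩, .z, false⟩ : M162) = 3 :=
  orderOf_eq_prime (by decide +kernel) (by decide +kernel)

theorem centre_comm : ∀ a : M162, a.s = false →
    a * ⟨⟨.o, .o, .o⟩, .z, false⟩ = ⟨⟨.o, .o, .o⟩, .z, false⟩ * a := by decide +kernel

theorem flag_of_cube : ∀ a : M162, a ^ 3 = 1 → a.s = false := by
  intro a h
  have key : ∀ a : M162, a * a * a = 1 → a.s = false := by decide +kernel
  exact key a (by rw [← pow_three']; exact h)

theorem pow_of_dset : ∀ a : M162, Dset a →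
    (a ^ 2) ^ 3 = 1 ∨ ((a ^ 6) ^ 3 = 1 ∧ a ^ 6 ≠ 1) := by
  intro a h
  have key : ∀ a : M162, Dset a → (a * a) * (a * a) * (a * a) = 1 ∨
      ((fun b : M162 => b * b * b = 1 ∧ b ≠ 1) ((a * a) * (a * a) * (a * a))) := by decide +kernel
  have e : a ^ 6 = a * a * (a * a) * (a * a) := by simp [pow_succ, mul_assoc]
  simpa only [pow_three', pow_two, e] using key a h

variable {X : Type u} [Group X] [Finite X]

/-- The hypothesis on the centralisers. -/
def CentIn (ι : M162 →* X) : Prop :=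
  ∀ m, orderOf m = 3 → Subgroup.centralizer ({ι m} : Set X) ≤ ι.range

variable {ι : M162 →* X} (inj : Function.Injective ι) (hC : CentIn ι)
include inj hC

theorem mem_of_commute {m : M162} (h3 : m ^ 3 = 1) (h1 : m ≠ 1) {g : X}
    (hg : g * ι m = ι m * g) : g ∈ ι.range :=
  hC m (orderOf_eq_prime h3 h1) (Subgroup.mem_centralizer_singleton_iff.2 hg)

/-- The elements conjugating an element of order three into the subgroup lie in it. -/
theorem mem_of_conj {a b : M162} (ha : a ^ 3 = 1) (ha1 : a ≠ 1) {g : X}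
    (hg : g * ι a * g⁻¹ = ι b) : g ∈ ι.range := by
  set z : M162 := ⟨⟨.o, .o, .o⟩, .z, false⟩ with hz
  have hz3 : z ^ 3 = 1 := by rw [← zModel_spec]; exact pow_orderOf_eq_one _
  have hz1 : z ≠ 1 := by decide +kernel
  have hb : b ^ 3 = 1 := inj (by
    rw [map_pow, ← hg, conj_pow, ← map_pow, ha, map_one, mul_one, mul_inv_cancel])
  have hb1 : b ≠ 1 := fun h => ha1 (inj (by
    rw [map_one]
    rw [h, map_one, conj_eq_one_iff] at hg
    exact hg))
  -- the conjugate of the central element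
  obtain ⟨c, hc⟩ : g * ι z * g⁻¹ ∈ ι.range := by
    refine mem_of_commute inj hC hb hb1 ?_
    have h := congrArg ι (centre_comm a (flag_of_cube a ha))
    rw [map_mul, map_mul] at h
    rw [← hg]
    calc g * ι z * g⁻¹ * (g * ι a * g⁻¹) = g * (ι z * ι a) * g⁻¹ := by group
      _ = g * (ι a * ι z) * g⁻¹ := by rw [h]
      _ = g * ι a * g⁻¹ * (g * ι z * g⁻¹) := by group
  have hc3 : c ^ 3 = 1 := inj (by
    rw [map_pow, hc, conj_pow, ← map_pow, hz3, map_one, mul_one, mul_inv_cancel])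
  have hc1 : c ≠ 1 := fun h => hz1 (inj (by
    rw [map_one]
    rw [h, map_one, eq_comm, conj_eq_one_iff] at hc
    exact hc))
  -- `g` maps the normal Sylow subgroup into the subgroup
  have hR : ∀ r : M162, r.s = false → ∃ r', r'.s = false ∧ g * ι r * g⁻¹ = ι r' := by
    intro r hr
    obtain ⟨r', hr'⟩ : g * ι r * g⁻¹ ∈ ι.range := by
      refine mem_of_commute inj hC hc3 hc1 ?_
      have h := congrArg ι (centre_comm r hr)
      rw [map_mul, map_mul] at h
      rw [hc]
      calc g * ι r * g⁻¹ * (g * ι z * g⁻¹) = g * (ι r * ι z) * g⁻¹ := by group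
        _ = g * (ι z * ι r) * g⁻¹ := by rw [h]
        _ = g * ι z * g⁻¹ * (g * ι r * g⁻¹) := by group
    refine ⟨r', ?_, hr'.symm⟩
    have h9 : r ^ 9 = 1 := by
      have key : ∀ r : M162, r.s = false → r * r * r * (r * r * r) * (r * r * r) = 1 := by
        decide +kernel
      rw [← key r hr, ← pow_three', ← pow_three', ← pow_mul]
    have h9' : r' ^ 9 = 1 := inj (by
      rw [map_pow, hr', conj_pow, ← map_pow, h9, map_one, mul_one, mul_inv_cancel])
    have key : ∀ r : M162, r * r * r * (r * r * r) * (r * r * r) = 1 → r.s = false := by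
      decide +kernel
    exact key r' (by rw [← h9', ← pow_three', ← pow_three', ← pow_mul])
  -- so `g` permutes it, and maps the centre to itself up to sign
  choose φ hφ hφg using hR
  let f : {r : M162 // r.s = false} → {r : M162 // r.s = false} := fun r => ⟨φ r r.2, hφ r r.2⟩
  have hf : Function.Injective f := fun r r' h => by
    have h' : φ r r.2 = φ r' r'.2 := congrArg Subtype.val h
    have := hφg r r.2
    rw [h', ← hφg r' r'.2] at this
    exact Subtype.ext (inj (mul_left_cancel (mul_right_cancel this)))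
  have hcc : ∀ s : M162, s.s = false → c * s = s * c := by
    intro s hs
    obtain ⟨⟨r, hr⟩, h⟩ := (Finite.injective_iff_surjective.1 hf) ⟨s, hs⟩
    have hs' : φ r hr = s := congrArg Subtype.val h
    refine inj ?_
    rw [map_mul, map_mul, ← hs', ← hφg r hr, hc]
    have h := congrArg ι (centre_comm r hr)
    rw [map_mul, map_mul] at h
    calc g * ι z * g⁻¹ * (g * ι r * g⁻¹) = g * (ι z * ι r) * g⁻¹ := by group
      _ = g * (ι r * ι z) * g⁻¹ := by rw [h]
      _ = g * ι r * g⁻¹ * (g * ι z * g⁻¹) := by group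
  have key : ∀ c : M162, (∀ s : M162, s.s = false → c * s = s * c) → c ≠ 1 → c.s = false →
      c = z ∨ tauM * c * tauM⁻¹ = z := by decide +kernel
  rcases key c hcc hc1 (flag_of_cube c hc3) with h | h
  · refine mem_of_commute inj hC hz3 hz1 ?_
    rw [h] at hc
    exact mul_inv_eq_iff_eq_mul.1 hc.symm
  · have h1 : ι tauM * g ∈ ι.range := by
      refine mem_of_commute inj hC hz3 hz1 ?_
      rw [← mul_inv_eq_iff_eq_mul]
      calc ι tauM * g * ι z * (ι tauM * g)⁻¹ = ι tauM * (g * ι z * g⁻¹) * (ι tauM)⁻¹ := by group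
        _ = ι z := by rw [← hc, ← map_inv, ← map_mul, ← map_mul, h]
    have h2 := mul_mem (inv_mem (⟨tauM, rfl⟩ : ι tauM ∈ ι.range)) h1
    rwa [inv_mul_cancel_left] at h2

theorem emb : Emb ι Dset := by
  refine ⟨inj, fun h h' hh hh' g hg => ?_⟩
  have hp : ∀ n : ℕ, g * ι (h ^ n) * g⁻¹ = ι (h' ^ n) := fun n => by
    rw [map_pow, map_pow, ← conj_pow, hg]
  rcases pow_of_dset h hh with e | ⟨e, e1⟩
  · exact mem_of_conj inj hC e (by rw [pow_two]; exact hh) (hp 2)
  · exact mem_of_conj inj hC e e1 (hp 6)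

theorem invol_mem {x : M162} (hx : Dset x) {a : X} (ha : a * a = 1)
    (hb : a⁻¹ * ι x * (a⁻¹ * ι x) = 1) : a ∈ ι.range := by
  have hxi : Dset x⁻¹ := by
    have key : ∀ x : M162, Dset x → Dset x⁻¹ := by decide +kernel
    exact key x hx
  have hai : a⁻¹ = a := inv_eq_of_mul_eq_one_left ha
  refine (emb inj hC).ti x x⁻¹ hx hxi a ?_
  rw [map_inv]
  refine eq_inv_of_mul_eq_one_left ?_
  rw [← hb, hai]
  group

/-- The number of ways to write a member of `D` as a product of two conjugates of the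
involution. -/
theorem count_invol {x : M162} (hx : Dset x) :
    Nat.card {a : X // IsConj (ι tauM) a ∧ IsConj (ι tauM) (a⁻¹ * ι x)} = nT x := by
  classical
  have key : ∀ a : M162, a ≠ 1 → a * a = 1 → ∃ k : M162, k * tauM * k⁻¹ = a := by decide +kernel
  have back : ∀ {a : M162}, a ≠ 1 → a * a = 1 → IsConj (ι tauM) (ι a) := fun h1 h2 => by
    obtain ⟨k, hk⟩ := key _ h1 h2
    exact ι.map_isConj (isConj_iff.2 ⟨k, hk⟩)
  have invol : ∀ {a : X}, IsConj (ι tauM) a → a * a = 1 ∧ a ≠ 1 := by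
    intro a h
    obtain ⟨c, rfl⟩ := isConj_iff.1 h
    have h2 : tauM * tauM = 1 := by decide +kernel
    refine ⟨?_, fun e => ?_⟩
    · rw [show c * ι tauM * c⁻¹ * (c * ι tauM * c⁻¹) = c * (ι tauM * ι tauM) * c⁻¹ by group,
        ← map_mul, h2, map_one, mul_one, mul_inv_cancel]
    · rw [conj_eq_one_iff, ← map_one ι] at e
      exact absurd (inj e) (by decide +kernel)
  rw [nT, ← Fintype.card_coe, ← Nat.card_eq_fintype_card]
  symm
  refine Nat.card_eq_of_bijective (fun a => ⟨ι a.1, ?_, ?_⟩) ⟨fun a b e => ?_, fun a => ?_⟩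
  · exact back (Finset.mem_filter.1 a.2).2.1 (Finset.mem_filter.1 a.2).2.2.1
  · rw [← map_inv, ← map_mul]
    exact back (Finset.mem_filter.1 a.2).2.2.2.1 (Finset.mem_filter.1 a.2).2.2.2.2
  · exact Subtype.ext (inj (congrArg Subtype.val e))
  · obtain ⟨a, ha, hb⟩ := a
    obtain ⟨b, rfl⟩ := invol_mem inj hC hx (invol ha).1 (invol hb).1
    obtain ⟨h1, h2⟩ := invol ha
    rw [← map_inv, ← map_mul] at hb
    obtain ⟨h3, h4⟩ := invol hb
    rw [← map_mul, ← map_one ι] at h1 h3
    refine ⟨⟨b, Finset.mem_filter.2 ⟨Finset.mem_univ _, fun e => h2 (by rw [e, map_one]),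
      inj h1, fun e => h4 (by rw [e, map_one]), inj h3⟩⟩, rfl⟩

end Cfsg.Agent.L43Three.WreathChar

namespace Cfsg.Agent.L43Three.WreathChar

/-- An integral function with square sum two takes the values `±1` at two points. -/
theorem two_support {I : Type*} [DecidableEq I] (s : Finset I) (f : I → ℤ)
    (h : ∑ i ∈ s, f i * f i = 2) :
    ∃ a ∈ s, ∃ b ∈ s, a ≠ b ∧ f a * f a = 1 ∧ f b * f b = 1 ∧
      ∀ i ∈ s, i ≠ a → i ≠ b → f i = 0 := by
  set S := s.filter fun i => f i ≠ 0 with hS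
  have hsum : ∑ i ∈ S, f i * f i = 2 := by
    rw [← h, hS, Finset.sum_filter_of_ne]
    intro i _ hi h0
    exact hi (by rw [h0, mul_zero])
  have hone : ∀ i ∈ S, 1 ≤ f i * f i := fun i hi => by
    rcases lt_trichotomy (f i) 0 with e | e | e
    · nlinarith
    · exact absurd e (Finset.mem_filter.1 hi).2
    · nlinarith
  have hle : S.card ≤ 2 := by
    have := Finset.card_nsmul_le_sum S _ 1 hone
    rw [hsum, nsmul_eq_mul, mul_one] at this
    exact_mod_cast this
  rcases lt_or_eq_of_le hle with hlt | heq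
  · exfalso
    rcases Nat.eq_zero_or_pos S.card with e | e
    · rw [Finset.card_eq_zero.1 e, Finset.sum_empty] at hsum
      omega
    · obtain ⟨a, ha⟩ := Finset.card_eq_one.1 (by omega : S.card = 1)
      rw [ha, Finset.sum_singleton] at hsum
      have hb : |f a| ≤ 1 := by
        by_contra hcon
        push Not at hcon
        nlinarith [abs_mul_abs_self (f a)]
      rcases abs_le.1 hb with ⟨l, r⟩
      interval_cases f a <;> omega
  · obtain ⟨a, b, hab, hSab⟩ := Finset.card_eq_two.1 heq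
    have ha : a ∈ S := by rw [hSab]; exact Finset.mem_insert_self _ _
    have hb : b ∈ S := by rw [hSab]; exact Finset.mem_insert_of_mem (Finset.mem_singleton_self _)
    have h' := hsum
    rw [hSab, Finset.sum_pair hab] at h'
    have h1 := hone a ha
    have h2 := hone b hb
    refine ⟨a, (Finset.mem_filter.1 ha).1, b, (Finset.mem_filter.1 hb).1, hab, by omega, by omega,
      fun i hi hia hib => ?_⟩
    by_contra hne
    have : i ∈ S := Finset.mem_filter.2 ⟨hi, hne⟩
    rw [hSab] at this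
    simp only [Finset.mem_insert, Finset.mem_singleton] at this
    exact this.elim hia hib

theorem sq_one {x : ℤ} (h : x * x = 1) : x = 1 ∨ x = -1 :=
  Int.eq_one_or_neg_one_of_mul_eq_one h

theorem sign_shape {f g : ℤ} (hg : g * g ≤ 1) (hf : f * f = 1) :
    f * g = 1 ∨ f * g = -1 ∨ f * g = 0 := by
  have h : -1 ≤ g ∧ g ≤ 1 := by constructor <;> nlinarith
  obtain ⟨h1, h2⟩ := h
  interval_cases g <;> rcases sq_one hf with rfl | rfl <;> norm_num

open Cfsg Cfsg.Agent.Char

universe u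

variable {X : Type u} [Group X] [Finite X]

/-- The shape of the two induced virtual characters. -/
theorem shapes {I : Type*} [DecidableEq I] [Fintype I] (f g : I → ℤ) (o : I) (fo : f o = 1)
    (go : g o = -1) (hff : ∑ i, f i * f i = 3) (hgg : ∑ i, g i * g i = 3)
    (hfg : ∑ i, f i * g i = 0) :
    ∃ p q r : I, p ≠ o ∧ p ≠ q ∧ r ≠ o ∧ r ≠ q ∧ q ≠ o ∧
      f p * f p = 1 ∧ f q * f q = 1 ∧ g r * g r = 1 ∧ g q = f q ∧
      (∀ i, i ≠ o → i ≠ p → i ≠ q → f i = 0) ∧ ∀ i, i ≠ o → i ≠ r → i ≠ q → g i = 0 := by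
  set s := (Finset.univ : Finset I).erase o
  have hs : ∀ F : I → ℤ, ∑ i, F i = F o + ∑ i ∈ s, F i := fun F =>
    (Finset.add_sum_erase _ F (Finset.mem_univ o)).symm
  rw [hs, fo] at hff
  rw [hs, go] at hgg
  rw [hs, fo, go] at hfg
  obtain ⟨a, ha, b, hb, hab, fa, fb, f0⟩ := two_support s f (by linarith)
  obtain ⟨c, hc, d, hd, hcd, gc, gd, g0⟩ := two_support s g (by linarith)
  have hne : ∀ {i}, i ∈ s → i ≠ o := fun hi => (Finset.mem_erase.1 hi).1
  have g0' : ∀ i, i ≠ o → i ≠ c → i ≠ d → g i = 0 := fun i hi =>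
    g0 i (Finset.mem_erase.2 ⟨hi, Finset.mem_univ _⟩)
  have f0' : ∀ i, i ≠ o → i ≠ a → i ≠ b → f i = 0 := fun i hi =>
    f0 i (Finset.mem_erase.2 ⟨hi, Finset.mem_univ _⟩)
  have hsum : f a * g a + f b * g b = 1 := by
    have e : ∑ i ∈ s, f i * g i = f a * g a + f b * g b := by
      rw [← Finset.sum_pair hab (f := fun i => f i * g i)]
      refine (Finset.sum_subset ?_ fun i hi hi' => ?_).symm
      · intro i hi
        simp only [Finset.mem_insert, Finset.mem_singleton] at hi
        rcases hi with rfl | rfl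
        exacts [ha, hb]
      · simp only [Finset.mem_insert, Finset.mem_singleton, not_or] at hi'
        rw [f0 i hi hi'.1 hi'.2, zero_mul]
    omega
  have gle : ∀ i ∈ s, g i * g i ≤ 1 := fun i hi => by
    by_cases e1 : i = c
    · rw [e1, gc]
    by_cases e2 : i = d
    · rw [e2, gd]
    rw [g0 i hi e1 e2]
    norm_num
  have mk : ∀ {p q : I}, p ≠ q → p ∈ s → q ∈ s → f p * f p = 1 → f q * f q = 1 →
      (∀ i, i ≠ o → i ≠ p → i ≠ q → f i = 0) → f q * g q = 1 → f p * g p = 0 →
      ∃ r : I, r ≠ o ∧ r ≠ q ∧ g r * g r = 1 ∧ g q = f q ∧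
        ∀ i, i ≠ o → i ≠ r → i ≠ q → g i = 0 := by
    intro p q hpq hp hq fp fq f0q hq1 hp0
    have gq : g q = f q := by
      rcases sq_one fq with e | e <;> rw [e] at hq1 ⊢ <;> omega
    have hqcd : q = c ∨ q = d := by
      by_contra hcon
      push Not at hcon
      rw [g0 q hq hcon.1 hcon.2, mul_zero] at hq1
      exact absurd hq1 (by decide)
    rcases hqcd with rfl | rfl
    · exact ⟨d, hne hd, hcd.symm, gd, gq, fun i h1 h2 h3 => g0' i h1 h3 h2⟩
    · exact ⟨c, hne hc, hcd, gc, gq, g0'⟩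
  rcases sign_shape (gle a ha) fa with h1 | h1 | h1 <;>
    rcases sign_shape (gle b hb) fb with h2 | h2 | h2 <;> rw [h1, h2] at hsum <;>
    norm_num at hsum
  · obtain ⟨r, r1, r2, r3, r4, r5⟩ :=
      mk hab.symm hb ha fb fa (fun i x y z => f0' i x z y) h1 h2
    exact ⟨b, a, r, hne hb, hab.symm, r1, r2, hne ha, fb, fa, r3, r4,
      fun i x y z => f0' i x z y, r5⟩
  · obtain ⟨r, r1, r2, r3, r4, r5⟩ := mk hab ha hb fa fb f0' h2 h1
    exact ⟨a, b, r, hne ha, hab, r1, r2, hne hb, fa, fb, r3, r4, f0', r5⟩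

open Cfsg.Agent.LocalTI in
/-- A linear character separating the involution. -/
theorem exists_linear {ι : M162 →* X} (inj : Function.Injective ι) (hC : CentIn ι) :
    ∃ f : X →* ℂˣ, f (ι tauM) ≠ 1 := by
  classical
  haveI : Fintype X := Fintype.ofFinite X
  set E := emb inj hC
  set o : IrrCharacter X := ⟨fun _ => 1, isIrrCharacter_one⟩ with ho
  have h162 : (Fintype.card M162 : ℂ) = 162 := by rw [card_M162]; norm_num
  have go : mult cvOne ι o = 1 := by
    have h := mult_one cvOne ι (χ := o) fun _ => rfl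
    rw [h162, sum_vOne] at h
    exact_mod_cast mul_left_injective₀ (b := (162 : ℂ)) (by norm_num)
      (h.trans (one_mul _).symm)
  have ho' : mult cvTwo ι o = -1 := by
    have h := mult_one cvTwo ι (χ := o) fun _ => rfl
    rw [h162, sum_vTwo] at h
    exact_mod_cast mul_left_injective₀ (b := (162 : ℂ)) (by norm_num)
      (h.trans (show (-162 : ℂ) = (-1) * 162 by norm_num))
  have n1 : ∑ χ, mult cvOne ι χ * mult cvOne ι χ = 3 := by
    have h := mult_orth E cvOne cvOne
    rw [h162, norm_vOne] at h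
    exact_mod_cast mul_left_injective₀ (b := (162 : ℂ)) (by norm_num)
      (h.trans (show (486 : ℂ) = 3 * 162 by norm_num))
  have n2 : ∑ χ, mult cvTwo ι χ * mult cvTwo ι χ = 3 := by
    have h := mult_orth E cvTwo cvTwo
    rw [h162, norm_vTwo] at h
    exact_mod_cast mul_left_injective₀ (b := (162 : ℂ)) (by norm_num)
      (h.trans (show (486 : ℂ) = 3 * 162 by norm_num))
  have n12 : ∑ χ, mult cvOne ι χ * mult cvTwo ι χ = 0 := by
    have h := mult_orth E cvOne cvTwo
    rw [h162, inner_vOne_vTwo] at h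
    exact_mod_cast (mul_eq_zero.1 h).resolve_right (by norm_num)
  obtain ⟨p, q, r, hpo, hpq, hro, hrq, hqo, fp, fq, gr, gq, f0, g0⟩ :=
    shapes (mult cvOne ι) (mult cvTwo ι) o go ho' n1 n2 n12
  set a : ℤ := mult cvOne ι p
  set b : ℤ := mult cvOne ι q
  set c : ℤ := mult cvTwo ι r
  -- the three relevant rows
  have row1 : ∀ F : IrrCharacter X → ℂ,
      ∑ χ, (mult cvOne ι χ : ℂ) * F χ = F o + (a : ℂ) * F p + (b : ℂ) * F q := by
    intro F
    have h3 : ∀ χ ∈ (Finset.univ : Finset (IrrCharacter X)), χ ∉ ({o, p, q} : Finset _) →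
        (mult cvOne ι χ : ℂ) * F χ = 0 := by
      intro χ _ hχ
      simp only [Finset.mem_insert, Finset.mem_singleton, not_or] at hχ
      rw [f0 χ hχ.1 hχ.2.1 hχ.2.2, Int.cast_zero, zero_mul]
    rw [← Finset.sum_subset (Finset.subset_univ _) h3, Finset.sum_insert (by simp [hpo.symm, hqo.symm]),
      Finset.sum_pair hpq, go, Int.cast_one, one_mul, add_assoc]
  have row2 : ∀ F : IrrCharacter X → ℂ,
      ∑ χ, (mult cvTwo ι χ : ℂ) * F χ = -F o + (c : ℂ) * F r + (b : ℂ) * F q := by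
    intro F
    have h3 : ∀ χ ∈ (Finset.univ : Finset (IrrCharacter X)), χ ∉ ({o, r, q} : Finset _) →
        (mult cvTwo ι χ : ℂ) * F χ = 0 := by
      intro χ _ hχ
      simp only [Finset.mem_insert, Finset.mem_singleton, not_or] at hχ
      rw [g0 χ hχ.1 hχ.2.1 hχ.2.2, Int.cast_zero, zero_mul]
    rw [← Finset.sum_subset (Finset.subset_univ _) h3, Finset.sum_insert (by simp [hro.symm, hqo.symm]),
      Finset.sum_pair hrq, ho', gq, Int.cast_neg, Int.cast_one, neg_one_mul, add_assoc]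
  -- vanishing at one and at the involution
  have hD : ∀ y : X, y * y = 1 → ∀ h, Dset h → ¬ IsConj y (ι h) := by
    intro y hy h hh hc
    obtain ⟨k, hk⟩ := isConj_iff.1 hc
    refine hh (inj ?_)
    rw [map_mul, map_one, ← hk, show k * y * k⁻¹ * (k * y * k⁻¹) = k * (y * y) * k⁻¹ by group, hy,
      mul_one, mul_inv_cancel]
  have ht2 : ι tauM * ι tauM = 1 := by
    rw [← map_mul, show tauM * tauM = 1 by decide +kernel, map_one]
  set val := fun (χ : IrrCharacter X) (y : X) => (χ : X → ℂ) y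
  have e1 := mult_vanish cvOne (hD 1 (mul_one 1))
  have e2 := mult_vanish cvTwo (hD 1 (mul_one 1))
  have e3 := mult_vanish cvOne (hD _ ht2)
  have e4 := mult_vanish cvTwo (hD _ ht2)
  rw [row1] at e1 e3
  rw [row2] at e2 e4
  have k1 := mult_count cvOne (ι tauM) nT fun x hx => count_invol inj hC hx
  have k2 := mult_count cvTwo (ι tauM) nT fun x hx => count_invol inj hC hx
  rw [count_vOne, h162] at k1
  rw [count_vTwo, h162] at k2
  simp only [mul_div_assoc, mul_assoc (_ : ℂ) ((_ : X → ℂ) (ι tauM))] at k1 k2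
  rw [row1] at k1
  rw [row2] at k2
  have deg : ∀ χ : IrrCharacter X, ∃ n : ℕ, 0 < n ∧ (χ : X → ℂ) 1 = n := fun χ =>
    ⟨_, CharX.irr_deg_pos χ, CharX.irr_deg χ⟩
  obtain ⟨dp, hdp, ep⟩ := deg p
  obtain ⟨dq, hdq, eq'⟩ := deg q
  obtain ⟨dr, hdr, er⟩ := deg r
  have o1 : ∀ y : X, (o : X → ℂ) y = 1 := fun _ => rfl
  simp only [o1, ep, eq', er, div_one, mul_one] at e1 e2 e3 e4 k1 k2
  set T := (p : X → ℂ) (ι tauM)
  set U := (q : X → ℂ) (ι tauM)
  set W := (r : X → ℂ) (ι tauM)
  set C := (Nat.card (Subgroup.centralizer ({ι tauM} : Set X)) : ℂ)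
  set N := (Nat.card X : ℂ)
  have hC0 : C ≠ 0 := Nat.cast_ne_zero.2 Nat.card_pos.ne'
  have ha : (a : ℂ) * a = 1 := by exact_mod_cast fp
  have hb : (b : ℂ) * b = 1 := by exact_mod_cast fq
  have hc' : (c : ℂ) * c = 1 := by exact_mod_cast gr
  have np : (dp : ℂ) ≠ 0 := Nat.cast_ne_zero.2 hdp.ne'
  have nq : (dq : ℂ) ≠ 0 := Nat.cast_ne_zero.2 hdq.ne'
  have nr : (dr : ℂ) ≠ 0 := Nat.cast_ne_zero.2 hdr.ne'
  -- the normalised values
  obtain ⟨D, hDd⟩ : ∃ D, D = (a : ℂ) * dp := ⟨_, rfl⟩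
  obtain ⟨V, hV⟩ : ∃ V, V = (a : ℂ) * T := ⟨_, rfl⟩
  have q1 : (b : ℂ) * dq = -1 - D := by rw [hDd]; linear_combination e1
  have q2 : (b : ℂ) * U = -1 - V := by rw [hV]; linear_combination e3
  have r1 : (c : ℂ) * dr = 2 + D := by linear_combination e2 - q1
  have r2 : (c : ℂ) * W = 2 + V := by linear_combination e4 - q2
  have D0 : D ≠ 0 := by rw [hDd]; exact mul_ne_zero (fun h => by simp [h] at ha) np
  have D1 : (1 : ℂ) + D ≠ 0 := fun h => by
    have h0 : (b : ℂ) * dq = 0 := by linear_combination q1 - h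
    exact mul_ne_zero (fun h => by simp [h] at hb) nq h0
  have D2 : (2 : ℂ) + D ≠ 0 := fun h => by
    have h0 : (c : ℂ) * dr = 0 := by linear_combination r1 + h
    exact mul_ne_zero (fun h => by simp [h] at hc') nr h0
  have sp : (a : ℂ) * (T * (T / dp)) = V * V / D := by
    rw [hDd, hV]
    have : (a : ℂ) ≠ 0 := fun h => by simp [h] at ha
    field_simp
  have sq' : (b : ℂ) * (U * (U / dq)) = -((1 + V) * (1 + V) / (1 + D)) := by
    have hb0 : (b : ℂ) ≠ 0 := fun h => by simp [h] at hb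
    have : (b : ℂ) * (U * (U / dq)) = ((b : ℂ) * U) * ((b : ℂ) * U) / ((b : ℂ) * dq) := by
      field_simp
    rw [this, q1, q2, show (-1 - D : ℂ) = -(1 + D) by ring, div_neg]
    ring
  have sr : (c : ℂ) * (W * (W / dr)) = (2 + V) * (2 + V) / (2 + D) := by
    have hc0 : (c : ℂ) ≠ 0 := fun h => by simp [h] at hc'
    have : (c : ℂ) * (W * (W / dr)) = ((c : ℂ) * W) * ((c : ℂ) * W) / ((c : ℂ) * dr) := by
      field_simp
    rw [this, r1, r2]
  rw [sp, sq'] at k1
  rw [sr, sq'] at k2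
  have K1 : 1458 * C * C * (D * (1 + D)) = N * 162 * ((D - V) * (D - V)) := by
    rw [k1]; field_simp; ring
  have K2 : 486 * C * C * ((1 + D) * (2 + D)) = N * 162 * ((D - V) * (D - V)) := by
    have : 486 * C * C = -(-486 * C * C) := by ring
    rw [this, k2]; field_simp; ring
  have hD1 : D = 1 := by
    have h : 486 * C * C * (1 + D) * (3 * D - (2 + D)) = 0 := by linear_combination K1 - K2
    rcases mul_eq_zero.1 h with h | h
    · exact absurd h (mul_ne_zero (mul_ne_zero (mul_ne_zero (by norm_num) hC0) hC0) D1)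
    · linear_combination h / 2
  have hV1 : V ≠ 1 := by
    intro h
    rw [hD1, h, sub_self, mul_zero, mul_zero] at K1
    exact mul_ne_zero (mul_ne_zero (mul_ne_zero (by norm_num) hC0) hC0)
      (by norm_num : (1 : ℂ) * (1 + 1) ≠ 0) K1
  have ha1 : a = 1 ∧ dp = 1 := by
    have h1 : a * (dp : ℤ) = 1 := by
      have : (((a * (dp : ℤ)) : ℤ) : ℂ) = ((1 : ℤ) : ℂ) := by
        push_cast; rw [← hDd]; exact hD1
      exact_mod_cast this
    rcases sq_one fp with e | e <;> rw [e] at h1 <;> constructor <;> omega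
  obtain ⟨ha1, hdp1⟩ := ha1
  have hp1 : (p : X → ℂ) 1 = 1 := by rw [ep, hdp1, Nat.cast_one]
  obtain ⟨f, hf⟩ := exists_hom_of_degree_one (IsIrrCharacter.isCharacter p.2) hp1
  refine ⟨f, fun h => hV1 ?_⟩
  rw [hV, ha1, Int.cast_one, one_mul]
  show (p : X → ℂ) (ι tauM) = 1
  rw [hf]
  show (f (ι tauM) : ℂ) = 1
  rw [h, Units.val_one]

end Cfsg.Agent.L43Three.WreathChar
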